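import Cfsg.Agent.H6.Fis9
import Cfsg.Agent.H6.U62I.Main

set_option autoImplicit false
set_option maxRecDepth 100000
set_option Elab.async false

namespace Cfsg.H6.Fi22R

def PL : List (List ℕ × List ℕ × List ℕ) := [([6], [1], [2,1,6,2,4,8,3,7,6,2,6,7,4,8,3,7,6,2,6,7]), ([1], [3], []), ([1], [5], [4,3,5,4]), ([1], [2,6,7,8,3,2,6,7,4,3,2,6,5,4,3,2,1,2,3,4,5,6,2,3,4,7,6,2,3,8,7,6,2], [4,5,2,6,3,2,1,2,3,6,2,7,8,4,3,7,2,6,3,2,1,2,3,6,2,7,8,4]), ([1], [2,6,7,8,1,2,6,7,4,3,2,6,5,4,3,2,1,2,3,4,5,6,2,3,4,7,6,2,1,8,7,6,2], [4,2,6,3,2,1,2,3,6,2,7,8,5,4,5,7,2,6,3,2,1,2,3,6,2,7,8,4]), ([6], [3], [2,1,6,2,4,2,6,3,2,1,2,3,6,2,3,4]), ([3], [5], [2,1,3,2,4,3,2,3,4,1,5,4,3,2,3,4]), ([3], [2,6,7,8,3,2,6,7,4,3,2,6,5,4,3,2,1,2,3,4,5,6,2,3,4,7,6,2,3,8,7,6,2],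 [2,1,3,2,4,3,2,3,4,6,8,7,8,5,4,3,2,3,4,5,6,7,8,4,3,2,3,4]), ([3], [2,6,7,8,1,2,6,7,4,3,2,6,5,4,3,2,1,2,3,4,5,6,2,3,4,7,6,2,1,8,7,6,2], [2,1,3,2,4,3,2,3,4,5,6,7,8,4,3,2,3,4,1,7,6,7,8,4,3,2,3,4]), ([6], [5], [2,1,6,2,4,2,6,3,2,1,2,3,6,2,5,4]), ([5], [2,6,7,8,3,2,6,7,4,3,2,6,5,4,3,2,1,2,3,4,5,6,2,3,4,7,6,2,3,8,7,6,2], [2,1,3,2,4,3,5,4,2,6,7,4,8,5,4,3,4,5,8,4,2,6,8,7,4,8,5,4,3,4,5,8,4,2]), ([5], [2,6,7,8,1,2,6,7,4,3,2,6,5,4,3,2,1,2,3,4,5,6,2,3,4,7,6,2,1,8,7,6,2], [2,1,3,2,4,3,5,4,2,4,8,5,4,3,4,5,8,4,7,6,2,8,4,8,5,4,3,4,5,8,4,7,6,2]), ([6], [2,6,7,8,3,2,6,7,4,3,2,6,5,4,3,2,1,2,3,4,5,6,2,3,4,7,6,2,3,8,7,6,2], [2,1,6,2,4,5,3,4,7,6,2,6,7,3,8,7,6,2,6,7]), ([2,6,7,8,3,2,6,7,4,3,2,6,5,4,3,2,1,2,3,4,5,6,2,3,4,7,6,2,3,8,7,6,2],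 [2,6,7,8,1,2,6,7,4,3,2,6,5,4,3,2,1,2,3,4,5,6,2,3,4,7,6,2,1,8,7,6,2], [2,3,4,5,6,2,3,4,7,6,2,3,8,7,6,2,7,6,2,6,7,8,4,3,2,1,2,3,4,8,7,6,2,7,5,2,6,7,8,4,3,2,1,2,3,4,8,7,6,2]), ([6], [2,6,7,8,1,2,6,7,4,3,2,6,5,4,3,2,1,2,3,4,5,6,2,3,4,7,6,2,1,8,7,6,2], [2,1,6,2,4,5,3,4,7,6,2,6,7,1,8,7,6,2,6,7]), ([2,6,7,8,1,2,6,7,4,3,2,6,5,4,3,2,1,2,3,4,5,6,2,3,4,7,6,2,1,8,7,6,2], [6], [2,3,4,5,6,2,3,4,7,6,2,1,8,7,6,2,7,8,6,7]), ([1], [6], [4,3,8,4,7,8,6,7]), ([3], [6], [2,1,3,2,4,3,2,3,4,1,6,4,3,2,3,4])]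

theorem nsq {C : Type*} [Group C] {π : C →* U62.Grp} {d : C} (h : DC π d) :
    ∀ x, π x * π x = 1 → x * x = 1 :=
  h.nsq U62.hev U62.main.2.2 (fun _ => U62I.classes) (t0 := [1]) (t1 := [3]) (p := [6]) (PL := PL)
    (us := [[1], [3], [5], [2,6,7,8,3,2,6,7,4,3,2,6,5,4,3,2,1,2,3,4,5,6,2,3,4,7,6,2,3,8,7,6,2], [2,6,7,8,1,2,6,7,4,3,2,6,5,4,3,2,1,2,3,4,5,6,2,3,4,7,6,2,1,8,7,6,2]]) (by decide +kernel)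

def gs : List (List ℕ) := [[], [1], [2], [3], [6], [5], [8], [7,8,4,8,7]]

def iw : List ℕ := [2,1,3,2,4,2,3,1,2,7,1,2,4,2,1,3,7,1,2,4,3,6,7,4,2,1]

def WA : List (List ℕ) := [[], [1], [2], [3], [4], [5], [8,6,7,4,8,5,4,3,4,5,8,4,7,6,8], [7], [8,7,8]]

def WB : List (List ℕ) := [[], [1,1,2,3,4,6,8,1,2,3,4,6,8,1,2,3,4,6,8,1,2,3,4,6,8,1,2,3,4,6,8], [2,1,2,3,4,6,8,1,2,3,4,6,8,1,2,3,4,6,8,1,2,3,4,6,8,1,2,3,4,6,8], [3,1,2,3,4,6,8,1,2,3,4,6,8,1,2,3,4,6,8,1,2,3,4,6,8,1,2,3,4,6,8], [4,1,2,3,4,6,8,1,2,3,4,6,8,1,2,3,4,6,8,1,2,3,4,6,8,1,2,3,4,6,8], [5,1,2,3,4,6,8,1,2,3,4,6,8,1,2,3,4,6,8,1,2,3,4,6,8,1,2,3,4,6,8], [7,6,7,1,2,3,4,6,8,1,2,3,4,6,8,1,2,3,4,6,8,1,2,3,4,6,8,1,2,3,4,6,8], [7,1,2,3,4,6,8,1,2,3,4,6,8,1,2,3,4,6,8,1,2,3,4,6,8,1,2,3,4,6,8],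 [8,6,7,2,6,3,2,1,2,3,6,2,7,6,8,1,2,3,4,6,8,1,2,3,4,6,8,1,2,3,4,6,8,1,2,3,4,6,8,1,2,3,4,6,8]]

end Cfsg.H6.Fi22R
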